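import Mathlib
import Cfsg.Prelude.Def_Characters
import Cfsg.Agent.Lib.helper3.Irr8
import Cfsg.Agent.Lib.helper3.Irr9
import Cfsg.Agent.Lib.helper3.Irr10
import Cfsg.Agent.Lib.helper3.IndLin
import Cfsg.Agent.Lib.helper3.IndFunTrans
import Cfsg.Agent.Lib.helper3.CharBasic2
import Cfsg.Agent.Lib.helper3.Tri1
import Cfsg.Agent.Lib.helper3.Gallagher

set_option autoImplicit false
set_option linter.style.haveILetI false
set_option linter.unusedSectionVars false

/-!
# Basic character-theoretic lemmas for Berger's theorem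
-/

namespace Cfsg.Agent.Lib.Helper5.Berger

open Cfsg Module Cfsg.Agent.Lib.helper3.Irr Cfsg.Agent.Lib.helper3.IndFun
open Cfsg.Agent.Lib.helper3.CharBasic Cfsg.Agent.Lib.helper3.IndFunTrans
open Cfsg.Agent.Lib.helper3.Tri
open scoped ComplexConjugate

section basic

variable {G : Type*} [Group G]

/-- A character of degree zero vanishes. -/
theorem char_eq_zero_of_apply_one [Finite G] {χ : G → ℂ} (hχ : IsCharacter G χ)
    (h1 : χ 1 = 0) : χ = 0 := by
  obtain ⟨n, ρ, rfl⟩ := hχ
  have h2 : (finrank ℂ (Fin n → ℂ) : ℂ) = 0 := by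
    rw [← Representation.char_one ρ]; exact h1
  have h3 : finrank ℂ (Fin n → ℂ) = 0 := by exact_mod_cast h2
  funext g
  have h4 := norm_character_le ρ g
  rw [h3] at h4
  simp only [Nat.cast_zero] at h4
  have h5 : ‖ρ.character g‖ = 0 := le_antisymm h4 (norm_nonneg _)
  simpa using h5

variable [Fintype G]

/-- If a sum of two characters is irreducible, one of them vanishes. -/
theorem eq_zero_or_eq_zero_of_add_irr {x y : G → ℂ} (hx : IsCharacter G x)
    (hy : IsCharacter G y) (hirr : IsIrrCharacter G (x + y)) : x = 0 ∨ y = 0 := by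
  by_contra hcon
  push Not at hcon
  obtain ⟨hx0, hy0⟩ := hcon
  obtain ⟨x₁, hx₁⟩ := exists_constituent hx hx0
  obtain ⟨b, hb⟩ := exists_nat_classInner_of_isCharacter hy x₁
  obtain ⟨a, ha⟩ := exists_nat_classInner_of_isCharacter hx x₁
  have ha0 : a ≠ 0 := by
    intro h
    apply hx₁
    rw [ha, h]; simp
  have h1 : classInner (x + y) (x₁ : G → ℂ) ≠ 0 := by
    rw [classInner_add_left, ha, hb]
    have : a + b ≠ 0 := by omega
    exact_mod_cast this
  have h2 : x + y = (x₁ : G → ℂ) := by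
    by_contra hne
    exact h1 (irr_classInner_eq_zero hirr x₁.2 hne)
  have h3 : IsCharacter G (x - (x₁ : G → ℂ)) := isCharacter_sub_of_classInner_ne_zero hx x₁ hx₁
  obtain ⟨c, hc⟩ := exists_nat_apply_one h3
  obtain ⟨d, hd⟩ := exists_nat_apply_one hy
  have h4 : x 1 - (x 1 + y 1) = c := by
    have := hc
    rw [← h2] at this
    simpa using this
  rw [hd] at h4
  have h5 : (c : ℂ) + (d : ℂ) = 0 := by
    rw [← h4]; ring
  have h6 : c + d = 0 := by exact_mod_cast h5
  have hd0 : d = 0 := by omega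
  apply hy0
  apply char_eq_zero_of_apply_one hy
  rw [hd, hd0]; simp

/-- If a product of two characters is irreducible, then so is the second factor. -/
theorem isIrr_of_mul_irr {a b : G → ℂ} (ha : IsCharacter G a) (hb : IsCharacter G b)
    (ha1 : a 1 ≠ 0) (hirr : IsIrrCharacter G (a * b)) : IsIrrCharacter G b := by
  have hb0 : b ≠ 0 := by
    intro h
    apply irr_ne_zero hirr
    rw [h, mul_zero]
  obtain ⟨b₁, hb₁⟩ := exists_constituent hb hb0
  have hb' : IsCharacter G (b - (b₁ : G → ℂ)) := isCharacter_sub_of_classInner_ne_zero hb b₁ hb₁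
  have hsplit : a * b = a * (b₁ : G → ℂ) + a * (b - (b₁ : G → ℂ)) := by
    rw [← mul_add]
    congr 1
    abel
  rw [hsplit] at hirr
  rcases eq_zero_or_eq_zero_of_add_irr
    (isCharacter_mul ha (isCharacter_of_isIrrCharacter b₁.2)) (isCharacter_mul ha hb') hirr
    with h | h
  · exfalso
    have h1 := congrFun h 1
    simp only [Pi.mul_apply, Pi.zero_apply] at h1
    rcases mul_eq_zero.mp h1 with h2 | h2
    · exact ha1 h2
    · exact apply_one_ne_zero b₁.2 h2
  · have h1 := congrFun h 1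
    simp only [Pi.mul_apply, Pi.zero_apply] at h1
    have h2 : (b - (b₁ : G → ℂ)) 1 = 0 := by
      rcases mul_eq_zero.mp h1 with h2 | h2
      · exact absurd h2 ha1
      · exact h2
    have h3 := char_eq_zero_of_apply_one hb' h2
    have h4 : b = (b₁ : G → ℂ) := sub_eq_zero.mp h3
    rw [h4]
    exact b₁.2

/-- A character inducing an irreducible character is irreducible. -/
theorem isIrr_of_indFun_irr (H : Subgroup G) {ρ : H → ℂ} (hρ : IsCharacter H ρ)
    (hirr : IsIrrCharacter G (indFun H ρ)) : IsIrrCharacter H ρ := by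
  classical
  letI : Fintype H := Fintype.ofFinite H
  have hidx : (H.index : ℂ) ≠ 0 := by
    have : H.index ≠ 0 := Subgroup.index_ne_zero_of_finite
    exact_mod_cast this
  have hρ0 : ρ ≠ 0 := by
    intro h
    apply irr_ne_zero hirr
    rw [h, indFun_zero]
  obtain ⟨ρ₁, hρ₁⟩ := exists_constituent hρ hρ0
  have hρ' : IsCharacter H (ρ - (ρ₁ : H → ℂ)) := isCharacter_sub_of_classInner_ne_zero hρ ρ₁ hρ₁
  have hsplit : ρ = (ρ₁ : H → ℂ) + (ρ - (ρ₁ : H → ℂ)) := by abel
  rw [hsplit, indFun_add] at hirr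
  rcases eq_zero_or_eq_zero_of_add_irr
    (isCharacter_indFun H _ (isCharacter_of_isIrrCharacter ρ₁.2)) (isCharacter_indFun H _ hρ') hirr
    with h | h
  · exfalso
    have h1 := congrFun h 1
    rw [indFun_apply_one] at h1
    simp only [Pi.zero_apply] at h1
    rcases mul_eq_zero.mp h1 with h2 | h2
    · exact hidx h2
    · exact apply_one_ne_zero ρ₁.2 h2
  · have h1 := congrFun h 1
    rw [indFun_apply_one] at h1
    simp only [Pi.zero_apply] at h1
    have h2 : (ρ - (ρ₁ : H → ℂ)) 1 = 0 := by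
      rcases mul_eq_zero.mp h1 with h2 | h2
      · exact absurd h2 hidx
      · exact h2
    have h3 := char_eq_zero_of_apply_one hρ' h2
    have h4 : ρ = (ρ₁ : H → ℂ) := sub_eq_zero.mp h3
    rw [h4]
    exact ρ₁.2

/-- If an irreducible character is induced from a character of a proper subgroup, it is induced
from an irreducible character of a maximal subgroup containing it. -/
theorem exists_coatom_induced (T : Subgroup G) (hT : T ≠ ⊤) {ρ : T → ℂ} (hρ : IsCharacter T ρ)
    {χ : G → ℂ} (hχ : IsIrrCharacter G χ) (hind : indFun T ρ = χ) :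
    ∃ (H : Subgroup G) (ϑ : H → ℂ), IsCoatom H ∧ T ≤ H ∧ IsIrrCharacter H ϑ ∧ indFun H ϑ = χ := by
  classical
  obtain ⟨H, hH, hTH⟩ := (eq_top_or_exists_le_coatom T).resolve_left hT
  letI : Fintype H := Fintype.ofFinite H
  letI : Fintype T := Fintype.ofFinite T
  obtain ⟨ρ', hρ'def⟩ : ∃ ρ' : T.subgroupOf H → ℂ,
      ρ' = fun x : T.subgroupOf H => ρ ⟨((x : H) : G), Subgroup.mem_subgroupOf.mp x.2⟩ := ⟨_, rfl⟩
  have hρ' : IsCharacter (T.subgroupOf H) ρ' := by
    rw [hρ'def]
    exact isCharacter_comp hρ (Subgroup.subgroupOfEquivOfLe hTH).toMonoidHom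
  have htrans : indFun H (indFun (T.subgroupOf H) ρ') = indFun T ρ := by
    rw [hρ'def]
    exact indFun_trans T H hTH ρ
  have hϑc : IsCharacter H (indFun (T.subgroupOf H) ρ') := isCharacter_indFun _ _ hρ'
  refine ⟨H, indFun (T.subgroupOf H) ρ', hH, hTH, ?_, by rw [htrans, hind]⟩
  apply isIrr_of_indFun_irr H hϑc
  rw [htrans, hind]
  exact hχ

end basic

end Cfsg.Agent.Lib.Helper5.Berger
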