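import Mathlib
import Cfsg.Prelude.Def_Characters
import Cfsg.Agent.Lib.Helper5.Berger.Basic

set_option autoImplicit false
set_option linter.style.haveILetI false
set_option linter.unusedSectionVars false

/-!
# Induction and pull-backs, kernels
-/

namespace Cfsg.Agent.Lib.Helper5.Berger

open Cfsg Module Cfsg.Agent.Lib.helper3.Irr Cfsg.Agent.Lib.helper3.IndFun
open Cfsg.Agent.Lib.helper3.CharBasic Cfsg.Agent.Lib.helper3.IndFunTrans
open Cfsg.Agent.Lib.helper3.Tri
open scoped ComplexConjugate

section comap

variable {Γ G : Type*} [Group Γ] [Group G]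

/-- A maximal subgroup pulls back to a maximal subgroup along a surjection. -/
theorem isCoatom_comap (f : Γ →* G) (hf : Function.Surjective f) {H : Subgroup G}
    (hH : IsCoatom H) : IsCoatom (H.comap f) := by
  constructor
  · intro h
    apply hH.1
    rw [← Subgroup.map_comap_eq_self_of_surjective hf H, h]
    exact Subgroup.map_top_of_surjective f hf
  · intro X hX
    have hker : f.ker ≤ X := by
      refine le_trans ?_ hX.le
      intro x hx
      rw [Subgroup.mem_comap, MonoidHom.mem_ker.mp hx]
      exact H.one_mem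
    have hXeq : (X.map f).comap f = X := by
      rw [Subgroup.comap_map_eq, sup_eq_left.mpr hker]
    have h1 : H ≤ X.map f := by
      rw [← Subgroup.map_comap_eq_self_of_surjective hf H]
      exact Subgroup.map_mono hX.le
    have h2 : H ≠ X.map f := by
      intro h
      apply hX.ne
      rw [h, hXeq]
    have h3 : X.map f = ⊤ := hH.2 _ (lt_of_le_of_ne h1 h2)
    rw [← hXeq, h3]
    rfl

theorem extendByZero_comap (f : Γ →* G) (H : Subgroup G) (θ : H → ℂ) (z : Γ) :
    extendByZero (H.comap f) (fun x => θ (f.subgroupComap H x)) z = extendByZero H θ (f z) := by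
  by_cases hz : f z ∈ H
  · have hz' : z ∈ H.comap f := hz
    rw [extendByZero_mem _ _ hz', extendByZero_mem _ _ hz]
    rfl
  · have hz' : z ∉ H.comap f := hz
    rw [extendByZero_not_mem _ _ hz', extendByZero_not_mem _ _ hz]

theorem card_comap_eq [Finite Γ] (f : Γ →* G) (hf : Function.Surjective f) (H : Subgroup G) :
    Nat.card (H.comap f) = Nat.card f.ker * Nat.card H := by
  haveI : Finite G := Finite.of_surjective f hf
  have hi : (H.comap f).index = H.index := Subgroup.index_comap_of_surjective H hf
  have e1 := Subgroup.card_mul_index (H.comap f)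
  have e2 := Subgroup.card_mul_index H
  have e3 : Nat.card Γ = Nat.card f.ker * Nat.card G := by
    have h3 := Subgroup.card_mul_index f.ker
    rw [Subgroup.index_ker, MonoidHom.range_eq_top.mpr hf, Subgroup.card_top] at h3
    exact h3.symm
  have hidx : H.index ≠ 0 := Subgroup.index_ne_zero_of_finite
  rw [hi, e3, ← e2, ← mul_assoc] at e1
  exact Nat.eq_of_mul_eq_mul_right (Nat.pos_of_ne_zero hidx) e1

/-- Induction commutes with pulling back along a surjective homomorphism. -/
theorem indFun_comap [Fintype Γ] [Fintype G] (f : Γ →* G) (hf : Function.Surjective f)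
    (H : Subgroup G) (θ : H → ℂ) (γ : Γ) :
    indFun (H.comap f) (fun x => θ (f.subgroupComap H x)) γ = indFun H θ (f γ) := by
  classical
  rw [indFun_apply, indFun_apply]
  have h1 : ∀ x : Γ, extendByZero (H.comap f) (fun x => θ (f.subgroupComap H x)) (x⁻¹ * γ * x)
      = extendByZero H θ ((f x)⁻¹ * f γ * f x) := by
    intro x
    rw [extendByZero_comap, map_mul, map_mul, map_inv]
  simp only [h1]
  rw [sum_comp_surjective f hf (fun y => extendByZero H θ (y⁻¹ * f γ * y)), card_comap_eq f hf H]
  have hk : (Nat.card f.ker : ℂ) ≠ 0 := card_ne_zero_complex _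
  have hH : (Nat.card H : ℂ) ≠ 0 := card_ne_zero_complex _
  push_cast
  field_simp

end comap

section kernel

variable {T : Type*} [Group T]

/-- An element in the kernel of a character can be cancelled. -/
theorem apply_mul_of_apply_eq_one [Finite T] {ρ : T → ℂ} (hρ : IsCharacter T ρ) (a : T)
    (ha : ρ a = ρ 1) (t : T) : ρ (t * a) = ρ t := by
  obtain ⟨n, σ, rfl⟩ := hρ
  rw [Representation.char_one] at ha
  have h1 := (character_eq_finrank_iff σ a).mp ha
  unfold Representation.character
  rw [map_mul, h1]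
  rfl

/-- The values of a character are bounded by the degree (real part version). -/
theorem re_apply_le [Finite T] {ρ : T → ℂ} (hρ : IsCharacter T ρ) (g : T) :
    (ρ g).re ≤ (ρ 1).re := by
  obtain ⟨n, σ, rfl⟩ := hρ
  rw [Representation.char_one]
  simp only [Complex.natCast_re]
  exact le_trans (Complex.re_le_norm _) (norm_character_le σ g)

/-- If the real part of a character value equals the degree then the value is the degree. -/
theorem apply_eq_of_re_eq [Finite T] {ρ : T → ℂ} (hρ : IsCharacter T ρ) (g : T)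
    (h : (ρ g).re = (ρ 1).re) : ρ g = ρ 1 := by
  obtain ⟨n, σ, rfl⟩ := hρ
  rw [Representation.char_one] at h ⊢
  simp only [Complex.natCast_re] at h
  have h1 := norm_character_le σ g
  have h2 : ‖σ.character g‖ ^ 2 = (σ.character g).re ^ 2 + (σ.character g).im ^ 2 := by
    rw [← Complex.normSq_eq_norm_sq, Complex.normSq_apply]; ring
  have h3 : ‖σ.character g‖ ^ 2 ≤ ((finrank ℂ (Fin n → ℂ) : ℕ) : ℝ) ^ 2 :=
    pow_le_pow_left₀ (norm_nonneg _) h1 2
  have h4 : (σ.character g).im ^ 2 ≤ 0 := by
    rw [h2, h] at h3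
    linarith
  have h5 : (σ.character g).im = 0 := by
    have := sq_nonneg (σ.character g).im
    have h6 : (σ.character g).im ^ 2 = 0 := le_antisymm h4 this
    exact pow_eq_zero_iff (two_ne_zero) |>.mp h6
  apply Complex.ext
  · rw [h]; simp
  · rw [h5]; simp

end kernel

section induced

variable {Γ : Type*} [Group Γ] [Fintype Γ]

/-- The value of an induced function on an element all of whose conjugates lie in the subgroup
and carry the same value. -/
theorem indFun_apply_of_invariant (H : Subgroup Γ) (τ : H → ℂ) (n : Γ)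
    (hmem : ∀ x : Γ, x⁻¹ * n * x ∈ H) (v : ℂ)
    (hval : ∀ x : Γ, τ ⟨x⁻¹ * n * x, hmem x⟩ = v) :
    indFun H τ n = (H.index : ℂ) * v := by
  classical
  rw [indFun_apply]
  have h1 : ∀ x : Γ, extendByZero H τ (x⁻¹ * n * x) = v := by
    intro x
    rw [extendByZero_mem H τ (hmem x)]
    exact hval x
  simp only [h1, Finset.sum_const, Finset.card_univ, nsmul_eq_mul]
  have h2 : (Fintype.card Γ : ℂ) = (Nat.card H : ℂ) * (H.index : ℂ) := by
    rw [← Nat.card_eq_fintype_card, ← Subgroup.card_mul_index H]
    push_cast; ring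
  rw [h2]
  have hH : (Nat.card H : ℂ) ≠ 0 := card_ne_zero_complex _
  field_simp

/-- If the induced character is trivial on a normal subgroup contained in the inducing subgroup,
so is the inducing character. -/
theorem apply_eq_one_of_indFun (T A : Subgroup Γ) [hA : A.Normal] (hAT : A ≤ T) {ρ : T → ℂ}
    (hρ : IsCharacter T ρ) (htriv : ∀ a ∈ A, indFun T ρ a = indFun T ρ 1) (a : Γ) (ha : a ∈ A) :
    ρ ⟨a, hAT ha⟩ = ρ 1 := by
  classical
  have hmem : ∀ x : Γ, x⁻¹ * a * x ∈ T := by
    intro x
    have := hA.conj_mem a ha x⁻¹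
    rw [inv_inv] at this
    exact hAT this
  have h1 := htriv a ha
  rw [indFun_apply, indFun_apply] at h1
  have hT : (Nat.card T : ℂ) ≠ 0 := card_ne_zero_complex _
  have h2 := mul_left_cancel₀ (inv_ne_zero hT) h1
  have h3 : ∀ x : Γ, extendByZero T ρ (x⁻¹ * a * x) = ρ ⟨x⁻¹ * a * x, hmem x⟩ := by
    intro x
    exact extendByZero_mem T ρ (hmem x)
  have h4 : ∀ x : Γ, extendByZero T ρ (x⁻¹ * 1 * x) = ρ 1 := by
    intro x
    have : x⁻¹ * 1 * x = 1 := by group
    rw [this, extendByZero_mem T ρ T.one_mem]
    rfl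
  simp only [h3, h4] at h2
  -- take real parts
  have h5 : ∑ x : Γ, ((ρ 1).re - (ρ ⟨x⁻¹ * a * x, hmem x⟩).re) = 0 := by
    rw [Finset.sum_sub_distrib, sub_eq_zero]
    have := congrArg Complex.re h2
    simp only [Complex.re_sum] at this
    exact this.symm
  have h6 : ∀ x ∈ (Finset.univ : Finset Γ),
      0 ≤ (ρ 1).re - (ρ ⟨x⁻¹ * a * x, hmem x⟩).re := by
    intro x _
    exact sub_nonneg.mpr (re_apply_le hρ _)
  have h7 := (Finset.sum_eq_zero_iff_of_nonneg h6).mp h5 1 (Finset.mem_univ _)
  have h8 : (⟨(1 : Γ)⁻¹ * a * 1, hmem 1⟩ : T) = ⟨a, hAT ha⟩ := by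
    apply Subtype.ext
    simp
  rw [h8] at h7
  apply apply_eq_of_re_eq hρ
  linarith

end induced

end Cfsg.Agent.Lib.Helper5.Berger
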