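import Mathlib
import Cfsg.Prelude.Def_Characters
import Cfsg.Agent.Lib.Helper5.Berger.Basic2
import Cfsg.Agent.Lib.helper3.TransferChar
import Cfsg.Agent.Lib.helper3.Gallagher3
import Cfsg.Agent.Lib.helper3.CExt5

set_option autoImplicit false
set_option linter.style.haveILetI false
set_option linter.unusedSectionVars false

/-!
# The fibre product used to divide by a character
-/

namespace Cfsg.Agent.Lib.Helper5.Berger

open Cfsg Module Cfsg.Agent.Lib.helper3.Irr Cfsg.Agent.Lib.helper3.IndFun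
open Cfsg.Agent.Lib.helper3.CharBasic Cfsg.Agent.Lib.helper3.IndFunTrans
open Cfsg.Agent.Lib.helper3.Tri Cfsg.Agent.Lib.helper3.Lin Cfsg.Agent.Lib.helper3.CExt
open scoped ComplexConjugate

universe u

section fibre

variable {G : Type u} [Group G]

/-- The fibre product `{(g, h) : h ∈ H, g⁻¹ h ∈ K}`. -/
def fibre (H K : Subgroup G) [hK : K.Normal] : Subgroup (G × G) where
  carrier := {x | x.2 ∈ H ∧ x.1⁻¹ * x.2 ∈ K}
  one_mem' := ⟨H.one_mem, by simp [K.one_mem]⟩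
  mul_mem' := by
    rintro x y ⟨hx1, hx2⟩ ⟨hy1, hy2⟩
    refine ⟨H.mul_mem hx1 hy1, ?_⟩
    have e : (x * y).1⁻¹ * (x * y).2 = y.1⁻¹ * (x.1⁻¹ * x.2) * y.1⁻¹⁻¹ * (y.1⁻¹ * y.2) := by
      simp only [Prod.fst_mul, Prod.snd_mul]
      group
    rw [e]
    exact K.mul_mem (hK.conj_mem _ hx2 _) hy2
  inv_mem' := by
    rintro x ⟨hx1, hx2⟩
    refine ⟨H.inv_mem hx1, ?_⟩
    have e : (x⁻¹).1⁻¹ * (x⁻¹).2 = x.1 * (x.1⁻¹ * x.2)⁻¹ * x.1⁻¹ := by
      simp only [Prod.fst_inv, Prod.snd_inv]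
      group
    rw [e]
    exact hK.conj_mem _ (K.inv_mem hx2) _

variable (H K : Subgroup G) [hK : K.Normal]

theorem mem_fibre_iff (x : G × G) : x ∈ fibre H K ↔ x.2 ∈ H ∧ x.1⁻¹ * x.2 ∈ K := Iff.rfl

/-- First projection. -/
def fst : fibre H K →* G := (MonoidHom.fst G G).comp (fibre H K).subtype

/-- Second projection, into `H`. -/
def snd : fibre H K →* H :=
  ((MonoidHom.snd G G).comp (fibre H K).subtype).codRestrict H (fun x => x.2.1)

theorem fst_apply (x : fibre H K) : fst H K x = (x : G × G).1 := rfl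

theorem snd_apply (x : fibre H K) : ((snd H K x : H) : G) = (x : G × G).2 := rfl

theorem fst_surjective (hsup : K ⊔ H = ⊤) : Function.Surjective (fst H K) := by
  intro g
  have hg : g ∈ ((K ⊔ H : Subgroup G) : Set G) := by rw [hsup]; trivial
  rw [Subgroup.normal_mul] at hg
  obtain ⟨k, hk, h, hh, rfl⟩ := Set.mem_mul.mp hg
  refine ⟨⟨(k * h, h), hh, ?_⟩, rfl⟩
  have e : (k * h, h).1⁻¹ * (k * h, h).2 = h⁻¹ * k⁻¹ * h⁻¹⁻¹ := by
    show (k * h)⁻¹ * h = h⁻¹ * k⁻¹ * h⁻¹⁻¹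
    group
  rw [e]
  exact hK.conj_mem _ (K.inv_mem hk) _

/-- On the preimage of `H`, the quotient of the two coordinates lies in `K ⊓ H`. -/
theorem quot_mem (x : fibre H K) (hx : (x : G × G).1 ∈ H) :
    (x : G × G).2⁻¹ * (x : G × G).1 ∈ K ⊓ H := by
  refine ⟨?_, H.mul_mem (H.inv_mem x.2.1) hx⟩
  have : (x : G × G).2⁻¹ * (x : G × G).1 = ((x : G × G).1⁻¹ * (x : G × G).2)⁻¹ := by group
  rw [this]
  exact K.inv_mem x.2.2

theorem mem_ker_fst (x : fibre H K) (hx : x ∈ (fst H K).ker) : (x : G × G).2 ∈ K ⊓ H := by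
  have h1 : (x : G × G).1 = 1 := MonoidHom.mem_ker.mp hx
  have h2 := quot_mem H K x (by rw [h1]; exact H.one_mem)
  rw [h1, mul_one] at h2
  have := (K ⊓ H).inv_mem h2
  rwa [inv_inv] at this

end fibre

end Cfsg.Agent.Lib.Helper5.Berger
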