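import Mathlib
import Cfsg.Prelude.Def_Characters
import Cfsg.Agent.Lib.Helper5.Berger.Fibre
import Cfsg.Agent.Lib.helper3.Berger3
import Cfsg.Agent.Lib.helper3.CliffCorr
import Cfsg.Agent.Lib.helper3.Ito
import Cfsg.Agent.Lib.helper3.FullyRam

set_option autoImplicit false
set_option linter.style.haveILetI false
set_option linter.unusedSectionVars false
set_option maxHeartbeats 1000000

/-!
# Dividing by a character: an induced character with "scalar" core is induced from a subgroup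
with a bigger core
-/

namespace Cfsg.Agent.Lib.Helper5.Berger

open Cfsg Module Cfsg.Agent.Lib.helper3.Irr Cfsg.Agent.Lib.helper3.IndFun
open Cfsg.Agent.Lib.helper3.CharBasic Cfsg.Agent.Lib.helper3.IndFunTrans
open Cfsg.Agent.Lib.helper3.Tri Cfsg.Agent.Lib.helper3.Lin Cfsg.Agent.Lib.helper3.CExt
open scoped ComplexConjugate

universe u

theorem indFun_congr {Γ : Type*} [Group Γ] [Fintype Γ] {H₁ H₂ : Subgroup Γ} (h : H₁ = H₂)
    (θ₁ : H₁ → ℂ) (θ₂ : H₂ → ℂ)
    (hθ : ∀ (x : Γ) (h1 : x ∈ H₁) (h2 : x ∈ H₂), θ₁ ⟨x, h1⟩ = θ₂ ⟨x, h2⟩) :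
    indFun H₁ θ₁ = indFun H₂ θ₂ := by
  subst h
  congr 1
  funext x
  exact hθ x.1 x.2 x.2

variable {G : Type u} [Group G] [Fintype G]

theorem exists_bigger (H : Subgroup G) (hH : IsCoatom H)
    (hsolv : Group.IsSolvable (G ⧸ H.normalCore))
    (δ : H → ℂ) (hδ : IsIrrCharacter H δ) (hβ : IsIrrCharacter G (indFun H δ))
    (hmul : ∀ h ∈ H, ∀ c ∈ H.normalCore,
      extendByZero H δ (h * c) = extendByZero H δ h * (extendByZero H δ c / extendByZero H δ 1))
    (hinv : ∀ g : G, ∀ c ∈ H.normalCore,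
      extendByZero H δ (g * c * g⁻¹) = extendByZero H δ c) :
    ∃ (T M : Subgroup G) (ρ : T → ℂ), T ≠ ⊤ ∧ M.Normal ∧ M ≤ T ∧ H.normalCore ≤ M ∧
      ¬ M ≤ H.normalCore ∧ IsCharacter T ρ ∧ indFun T ρ = indFun H δ := by
  classical
  have hCH : H.normalCore ≤ H := Subgroup.normalCore_le H
  obtain ⟨K, p, a', hKn, hp, hidx, ha0, hCK, hKH, hsup, -⟩ :=
    Cfsg.Agent.Lib.helper3.Berger.exists_relative_data H.normalCore H hCH hH hsolv
  haveI := hKn
  letI : Fintype (fibre H K) := Fintype.ofFinite _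
  letI : Fintype H := Fintype.ofFinite _
  obtain ⟨p₁, hp₁⟩ : ∃ p₁ : fibre H K →* G, p₁ = fst H K := ⟨_, rfl⟩
  obtain ⟨p₂, hp₂⟩ : ∃ p₂ : fibre H K →* H, p₂ = snd H K := ⟨_, rfl⟩
  have hp₁a : ∀ x : fibre H K, p₁ x = (x : G × G).1 := by intro x; rw [hp₁]; rfl
  have hp₂a : ∀ x : fibre H K, ((p₂ x : H) : G) = (x : G × G).2 := by intro x; rw [hp₂]; rfl
  have hsurj : Function.Surjective p₁ := by rw [hp₁]; exact fst_surjective H K hsup
  have hδc := isCharacter_of_isIrrCharacter hδ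
  -- the function `D` and the multiplier `m`
  obtain ⟨D, hD⟩ : ∃ D : G → ℂ, D = extendByZero H δ := ⟨_, rfl⟩
  rw [← hD] at hmul hinv
  have hDmem : ∀ (g : G) (hg : g ∈ H), D g = δ ⟨g, hg⟩ := by
    intro g hg; rw [hD]; exact extendByZero_mem H δ hg
  have hD1 : D 1 = δ 1 := hDmem 1 H.one_mem
  have hD1ne : D 1 ≠ 0 := by rw [hD1]; exact apply_one_ne_zero hδ
  obtain ⟨m, hm⟩ : ∃ m : G → ℂ, m = fun c => D c / D 1 := ⟨_, rfl⟩
  have hma : ∀ c, m c = D c / D 1 := by intro c; rw [hm]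
  have m1 : m 1 = 1 := by rw [hma]; exact div_self hD1ne
  have m5 : ∀ h ∈ H, ∀ c ∈ H.normalCore, D (h * c) = D h * m c := by
    intro h hh c hc
    rw [hma]; exact hmul h hh c hc
  have m2 : ∀ c ∈ H.normalCore, ∀ c' ∈ H.normalCore, m (c * c') = m c * m c' := by
    intro c hc c' hc'
    rw [hma (c * c'), m5 c (hCH hc) c' hc', hma c]
    ring
  have m3 : ∀ g : G, ∀ c ∈ H.normalCore, m (g * c * g⁻¹) = m c := by
    intro g c hc
    rw [hma, hma, hinv g c hc]
  have m4 : ∀ c ∈ H.normalCore, m c ≠ 0 := by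
    intro c hc h0
    have h1 := m2 c hc c⁻¹ (H.normalCore.inv_mem hc)
    rw [mul_inv_cancel, m1, h0, zero_mul] at h1
    exact one_ne_zero h1
  -- the subgroup `Ĥ`
  obtain ⟨Hh, hHh⟩ : ∃ Hh : Subgroup (fibre H K), Hh = H.comap p₁ := ⟨_, rfl⟩
  have hHhmem : ∀ x : fibre H K, x ∈ Hh ↔ (x : G × G).1 ∈ H := by
    intro x; rw [hHh, Subgroup.mem_comap, hp₁a]
  have hHhmax : IsCoatom Hh := by rw [hHh]; exact isCoatom_comap p₁ hsurj hH
  letI : Fintype Hh := Fintype.ofFinite _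
  have memC : ∀ x : fibre H K, x ∈ Hh → (x : G × G).2⁻¹ * (x : G × G).1 ∈ H.normalCore := by
    intro x hx
    have := quot_mem H K x ((hHhmem x).mp hx)
    rwa [hKH] at this
  have mem2 : ∀ x : fibre H K, (x : G × G).2 ∈ H := fun x => x.2.1
  -- the linear character `τ`
  obtain ⟨τ, hτ⟩ : ∃ τ : Hh →* ℂˣ, ∀ x : Hh,
      ((τ x : ℂˣ) : ℂ) = m (((x : fibre H K) : G × G).2⁻¹ * ((x : fibre H K) : G × G).1) := by
    refine ⟨MonoidHom.mk' (fun x => Units.mk0
      (m (((x : fibre H K) : G × G).2⁻¹ * ((x : fibre H K) : G × G).1))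
      (m4 _ (memC x x.2))) ?_, fun x => rfl⟩
    intro x y
    apply Units.ext
    simp only [Units.val_mul, Units.val_mk0]
    have e : (((x * y : Hh) : fibre H K) : G × G).2⁻¹ * (((x * y : Hh) : fibre H K) : G × G).1
        = (((y : fibre H K) : G × G).2⁻¹ *
            (((x : fibre H K) : G × G).2⁻¹ * ((x : fibre H K) : G × G).1) *
            (((y : fibre H K) : G × G).2⁻¹)⁻¹) *
          (((y : fibre H K) : G × G).2⁻¹ * ((y : fibre H K) : G × G).1) := by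
      simp only [Subgroup.coe_mul, Prod.fst_mul, Prod.snd_mul]
      group
    rw [e, m2 _ ((Subgroup.normalCore_normal H).conj_mem _ (memC x x.2) _) _ (memC y y.2),
      m3 _ _ (memC x x.2)]
  obtain ⟨τf, hτf⟩ : ∃ τf : Hh → ℂ, τf = fun x => ((τ x : ℂˣ) : ℂ) := ⟨_, rfl⟩
  have hτfa : ∀ x : Hh, τf x
      = m (((x : fibre H K) : G × G).2⁻¹ * ((x : fibre H K) : G × G).1) := by
    intro x; rw [hτf]; exact hτ x
  have hτc : IsCharacter Hh τf := by rw [hτf]; exact isCharacter_of_hom τ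
  have hτ1 : τf 1 = 1 := by rw [hτf]; simp
  have hτirr : IsIrrCharacter Hh τf := isIrrCharacter_of_linear hτc hτ1
  -- the character `δ ∘ p₂`
  obtain ⟨dp, hdp⟩ : ∃ dp : fibre H K → ℂ, dp = fun γ => δ (p₂ γ) := ⟨_, rfl⟩
  have hdpc : IsCharacter (fibre H K) dp := by rw [hdp]; exact isCharacter_comp hδc p₂
  have hdp1 : dp 1 ≠ 0 := by
    rw [hdp]; simp only [map_one]; exact apply_one_ne_zero hδ
  have hdpa : ∀ γ : fibre H K, dp γ = D (γ : G × G).2 := by
    intro γ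
    rw [hdp, hDmem _ (mem2 γ)]
    show δ (p₂ γ) = _
    congr 1
    exact Subtype.ext (hp₂a γ)
  -- the key identity
  have hkey : (τf * fun x : Hh => dp x)
      = fun x : Hh => δ (p₁.subgroupComap H ⟨(x : fibre H K), by rw [← hHh]; exact x.2⟩) := by
    funext x
    rw [Pi.mul_apply, hτfa, hdpa]
    have h1 : δ (p₁.subgroupComap H ⟨(x : fibre H K), by rw [← hHh]; exact x.2⟩)
        = D ((x : fibre H K) : G × G).1 := by
      rw [hDmem _ ((hHhmem x).mp x.2)]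
      congr 1
      exact Subtype.ext (hp₁a _)
    rw [h1, mul_comm, ← m5 _ (mem2 x) _ (memC x x.2)]
    congr 1
    group
  -- the induced character `ω`
  obtain ⟨ω, hωdef⟩ : ∃ ω : fibre H K → ℂ, ω = indFun Hh τf := ⟨_, rfl⟩
  have hωc : IsCharacter (fibre H K) ω := by rw [hωdef]; exact isCharacter_indFun Hh τf hτc
  obtain ⟨β', hβ'def⟩ : ∃ β' : fibre H K → ℂ, β' = fun γ => indFun H δ (p₁ γ) := ⟨_, rfl⟩
  have hβ' : IsIrrCharacter (fibre H K) β' := by
    rw [hβ'def]; exact isIrrCharacter_comp_surjective p₁ hsurj hβ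
  have hprod : ω * dp = β' := by
    rw [hωdef, ← indFun_mul_restrict Hh τf dp (isClassFunction_of_isCharacter hdpc), hkey, hβ'def]
    funext γ
    rw [← indFun_comap p₁ hsurj H δ γ]
    apply congrFun
    apply indFun_congr hHh
    intro x h1 h2
    rfl
  have hω : IsIrrCharacter (fibre H K) ω := by
    apply isIrr_of_mul_irr hdpc hωc hdp1
    rw [mul_comm, hprod]
    exact hβ'
  -- the normal subgroup `L̂`
  obtain ⟨q, hq⟩ : ∃ q : fibre H K →* G ⧸ H.normalCore,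
      q = (QuotientGroup.mk' H.normalCore).comp p₁ := ⟨_, rfl⟩
  obtain ⟨Lh, hLh⟩ : ∃ Lh : Subgroup (fibre H K), Lh = q.ker := ⟨_, rfl⟩
  have hLhn : Lh.Normal := by rw [hLh]; infer_instance
  have hLhmem : ∀ x : fibre H K, x ∈ Lh ↔ (x : G × G).1 ∈ H.normalCore := by
    intro x
    rw [hLh, MonoidHom.mem_ker, hq, MonoidHom.comp_apply, QuotientGroup.mk'_apply,
      QuotientGroup.eq_one_iff, hp₁a]
  have hLhHh : Lh ≤ Hh := by
    intro x hx
    rw [hHhmem]
    exact hCH ((hLhmem x).mp hx)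
  have hLh2 : ∀ x : fibre H K, x ∈ Lh → (x : G × G).2 ∈ H.normalCore := by
    intro x hx
    have h1 := memC x (hLhHh hx)
    have h2 := (hLhmem x).mp hx
    have h3 : (x : G × G).2 = (x : G × G).1 * ((x : G × G).2⁻¹ * (x : G × G).1)⁻¹ := by group
    rw [h3]
    exact H.normalCore.mul_mem h2 (H.normalCore.inv_mem h1)
  have hsolvΓ : Group.IsSolvable (fibre H K ⧸ Lh) := by
    haveI := hsolv
    have h1 : Group.IsSolvable (fibre H K ⧸ q.ker) :=
      Group.isSolvable_of_isSolvable_injective (QuotientGroup.kerLift_injective q)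
    subst hLh
    exact h1
  haveI := hLhn
  letI : Fintype Lh := Fintype.ofFinite _
  have hτLh : IsIrrCharacter Lh (fun x : Lh => τf ⟨(x : fibre H K), hLhHh x.2⟩) := by
    have h1 := isCharacter_of_hom (τ.comp (Subgroup.inclusion hLhHh))
    have h2 : (fun x : Lh => ((τ.comp (Subgroup.inclusion hLhHh) x : ℂˣ) : ℂ))
        = fun x : Lh => τf ⟨(x : fibre H K), hLhHh x.2⟩ := by
      funext x
      rw [hτf]
      rfl
    rw [h2] at h1
    apply isIrrCharacter_of_linear h1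
    have : (⟨((1 : Lh) : fibre H K), hLhHh (1 : Lh).2⟩ : Hh) = 1 := rfl
    rw [this, hτ1]
  -- invariance of `τ` on `L̂`
  have hτinv : ∀ (n : fibre H K) (hn : n ∈ Lh) (x : fibre H K),
      ∃ hmem : x⁻¹ * n * x ∈ Hh, τf ⟨x⁻¹ * n * x, hmem⟩ = τf ⟨n, hLhHh hn⟩ := by
    intro n hn x
    have hconj : x⁻¹ * n * x ∈ Lh := by
      have := hLhn.conj_mem n hn x⁻¹
      rwa [inv_inv] at this
    refine ⟨hLhHh hconj, ?_⟩
    rw [hτfa, hτfa]
    have e : ((x⁻¹ * n * x : fibre H K) : G × G).2⁻¹ * ((x⁻¹ * n * x : fibre H K) : G × G).1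
        = ((x : G × G).2⁻¹ * (n : G × G).2⁻¹ * ((x : G × G).2⁻¹)⁻¹) *
          ((x : G × G).1⁻¹ * (n : G × G).1 * ((x : G × G).1⁻¹)⁻¹) := by
      simp only [Subgroup.coe_mul, Subgroup.coe_inv, Prod.fst_mul, Prod.snd_mul, Prod.fst_inv,
        Prod.snd_inv]
      group
    have hn1 := (hLhmem n).mp hn
    have hn2 := H.normalCore.inv_mem (hLh2 n hn)
    rw [e, m2 _ ((Subgroup.normalCore_normal H).conj_mem _ hn2 _) _
      ((Subgroup.normalCore_normal H).conj_mem _ hn1 _), m3 _ _ hn2, m3 _ _ hn1,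
      ← m2 _ hn2 _ hn1]
  -- apply Isaacs 11.32
  obtain ⟨Mh, hMhn, hLhMh, hMhbad⟩ :=
    Cfsg.Agent.Lib.helper3.Berger.induced_not_quasiprimitive Lh Hh hLhHh hHhmax hsolvΓ τf hτirr
      hτLh (by rw [← hωdef]; exact hω)
  rw [← hωdef] at hMhbad
  haveI := hMhn
  letI : Fintype Mh := Fintype.ofFinite _
  have hMhLh : ¬ Mh ≤ Lh := by
    intro hle
    apply hMhbad
    have hle' : Mh ≤ Hh := hle.trans hLhHh
    refine ⟨fun x : Mh => τf ⟨(x : fibre H K), hle' x.2⟩, Hh.index, ?_, ?_⟩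
    · have h1 := isCharacter_of_hom (τ.comp (Subgroup.inclusion hle'))
      have h2 : (fun x : Mh => ((τ.comp (Subgroup.inclusion hle') x : ℂˣ) : ℂ))
          = fun x : Mh => τf ⟨(x : fibre H K), hle' x.2⟩ := by
        funext x
        rw [hτf]
        rfl
      rw [h2] at h1
      apply isIrrCharacter_of_linear h1
      have : (⟨((1 : Mh) : fibre H K), hle' (1 : Mh).2⟩ : Hh) = 1 := rfl
      rw [this, hτ1]
    · funext x
      simp only [Pi.smul_apply, smul_eq_mul]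
      rw [hωdef]
      exact indFun_apply_of_invariant Hh τf (x : fibre H K)
        (fun y => (hτinv x (hle x.2) y).1) _ (fun y => (hτinv x (hle x.2) y).2)
  -- Clifford theory
  have hωMc : IsCharacter Mh (fun x : Mh => ω x) := isCharacter_restrict hωc Mh
  have hωM0 : (fun x : Mh => ω x) ≠ 0 := by
    intro h
    have := congrFun h 1
    exact apply_one_ne_zero hω this
  obtain ⟨ω₁, hω₁⟩ := exists_constituent hωMc hωM0
  obtain ⟨Th, hThdef⟩ : ∃ Th : Subgroup (fibre H K), Th = inertia Mh (ω₁ : Mh → ℂ) := ⟨_, rfl⟩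
  have hTh : ∀ g : fibre H K, g ∈ Th ↔ ∀ h : Mh,
      (ω₁ : Mh → ℂ) ⟨g * h * g⁻¹, hMhn.conj_mem h h.2 g⟩ = (ω₁ : Mh → ℂ) h := by
    intro g; rw [hThdef]; exact mem_inertia_iff Mh _ g
  have hMhTh : Mh ≤ Th := by
    rw [hThdef]
    exact le_inertia Mh _ (isClassFunction_of_isCharacter (isCharacter_of_isIrrCharacter ω₁.2))
  letI : Fintype Th := Fintype.ofFinite _
  obtain ⟨ψ, hψ, hψind, -⟩ := clifford_corr_surjective Mh (ω₁ : Mh → ℂ) ω₁.2 Th hTh hMhTh ω hω hω₁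
  have hThtop : Th ≠ ⊤ := by
    intro htop
    apply hMhbad
    have hinv' : ∀ (g : fibre H K) (h : Mh),
        (ω₁ : Mh → ℂ) ⟨g * h * g⁻¹, hMhn.conj_mem h h.2 g⟩ = (ω₁ : Mh → ℂ) h := by
      intro g
      exact (hTh g).mp (by rw [htop]; trivial)
    have h1 := restrict_eq_smul_of_invariant Mh ω hω (ω₁ : Mh → ℂ) ω₁.2 hω₁ hinv'
    obtain ⟨e, he⟩ := exists_nat_classInner_of_isCharacter hωMc ω₁
    refine ⟨(ω₁ : Mh → ℂ), e, ω₁.2, ?_⟩
    rw [← he]
    exact h1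
  -- the character `ρ̂`
  have hψc := isCharacter_of_isIrrCharacter hψ
  obtain ⟨ρh, hρhdef⟩ : ∃ ρh : Th → ℂ, ρh = ψ * fun t : Th => dp t := ⟨_, rfl⟩
  have hρhc : IsCharacter Th ρh := by
    rw [hρhdef]; exact isCharacter_mul hψc (isCharacter_restrict hdpc Th)
  have hρhind : indFun Th ρh = β' := by
    rw [hρhdef, indFun_mul_restrict Th ψ dp (isClassFunction_of_isCharacter hdpc), hψind, hprod]
  have hρhirr : IsIrrCharacter Th ρh := isIrr_of_indFun_irr Th hρhc (by rw [hρhind]; exact hβ')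
  -- descend along `p₁`
  have hkerLh : p₁.ker ≤ Lh := by
    intro x hx
    rw [hLhmem, ← hp₁a, MonoidHom.mem_ker.mp hx]
    exact H.normalCore.one_mem
  have hkerTh : p₁.ker ≤ Th := hkerLh.trans (hLhMh.trans hMhTh)
  have htriv : ∀ a ∈ p₁.ker, indFun Th ρh a = indFun Th ρh 1 := by
    intro a ha
    rw [hρhind, hβ'def]
    simp only [map_one, MonoidHom.mem_ker.mp ha]
  have hρhA : ∀ (a : fibre H K) (ha : a ∈ p₁.ker), ρh ⟨a, hkerTh ha⟩ = ρh 1 :=
    apply_eq_one_of_indFun Th p₁.ker hkerTh hρhc htriv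
  obtain ⟨f, hf⟩ : ∃ f : Th →* Th.map p₁, f = p₁.subgroupMap Th := ⟨_, rfl⟩
  have hfsurj : Function.Surjective f := by rw [hf]; exact p₁.subgroupMap_surjective Th
  have hfa : ∀ t : Th, ((f t : Th.map p₁) : G) = p₁ (t : fibre H K) := by
    intro t; rw [hf]; rfl
  obtain ⟨ρ, hρ, hρf⟩ := exists_descent f hfsurj hρhirr (by
    intro a n hn
    apply apply_mul_of_apply_eq_one hρhc n _ a
    have h1 : (n : fibre H K) ∈ p₁.ker := by
      rw [MonoidHom.mem_ker, ← hfa, MonoidHom.mem_ker.mp hn]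
      rfl
    exact hρhA n h1)
  have hcomap : (Th.map p₁).comap p₁ = Th := by
    rw [Subgroup.comap_map_eq, sup_eq_left.mpr hkerTh]
  refine ⟨Th.map p₁, Mh.map p₁, ρ, ?_, hMhn.map p₁ hsurj, Subgroup.map_mono hMhTh, ?_, ?_,
    isCharacter_of_isIrrCharacter hρ, ?_⟩
  · intro htop
    apply hThtop
    rw [← hcomap, htop]
    rfl
  · intro c hc
    have hc' : ((c, c) : G × G) ∈ fibre H K := by
      refine ⟨hCH hc, ?_⟩
      show c⁻¹ * c ∈ K
      rw [inv_mul_cancel]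
      exact K.one_mem
    refine ⟨⟨(c, c), hc'⟩, hLhMh ((hLhmem _).mpr hc), ?_⟩
    rw [hp₁a]
  · intro hle
    apply hMhLh
    intro x hx
    rw [hLhmem, ← hp₁a]
    exact hle (Subgroup.mem_map_of_mem p₁ hx)
  · funext g
    obtain ⟨γ, rfl⟩ := hsurj g
    rw [← indFun_comap p₁ hsurj (Th.map p₁) ρ γ]
    have h1 : indFun ((Th.map p₁).comap p₁) (fun x => ρ (p₁.subgroupComap (Th.map p₁) x))
        = indFun Th ρh := by
      apply indFun_congr hcomap
      intro x h1 h2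
      rw [← hρf ⟨x, h2⟩]
      congr 1
      exact Subtype.ext (hfa ⟨x, h2⟩).symm
    rw [h1, hρhind, hβ'def]

end Cfsg.Agent.Lib.Helper5.Berger
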