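import Mathlib
import Cfsg.Prelude.Def_Characters
import Cfsg.Agent.Lib.Helper5.Berger.Divide
import Cfsg.Agent.Lib.helper3.CExt7
import Cfsg.Agent.Lib.helper3.Berger2

set_option autoImplicit false
set_option linter.style.haveILetI false
set_option linter.unusedSectionVars false
set_option maxHeartbeats 1000000

/-!
# Berger's theorem: quasi-primitive characters of solvable groups are primitive
-/

namespace Cfsg.Agent.Lib.Helper5.Berger

open Cfsg Module Cfsg.Agent.Lib.helper3.Irr Cfsg.Agent.Lib.helper3.IndFun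
open Cfsg.Agent.Lib.helper3.CharBasic Cfsg.Agent.Lib.helper3.IndFunTrans
open Cfsg.Agent.Lib.helper3.Tri Cfsg.Agent.Lib.helper3.Lin Cfsg.Agent.Lib.helper3.CExt
open Cfsg.Agent.Lib.helper3.CycExt
open scoped ComplexConjugate

universe u

/-- Descent of an induced character along a surjection whose kernel lies in the inducing
subgroup. -/
theorem descend_induced {Γ G : Type*} [Group Γ] [Group G] [Fintype Γ] [Fintype G] (f : Γ →* G)
    (hf : Function.Surjective f) (T : Subgroup Γ) (hker : f.ker ≤ T) {ρ : T → ℂ}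
    (hρ : IsCharacter T ρ) {Ξ : G → ℂ} (hΞ : IsIrrCharacter G Ξ)
    (hind : indFun T ρ = fun γ => Ξ (f γ)) :
    ∃ ρ₁ : T.map f → ℂ, IsIrrCharacter (T.map f) ρ₁ ∧ indFun (T.map f) ρ₁ = Ξ := by
  classical
  letI : Fintype T := Fintype.ofFinite _
  have hΞ' : IsIrrCharacter Γ (fun γ => Ξ (f γ)) := isIrrCharacter_comp_surjective f hf hΞ
  have hρirr : IsIrrCharacter T ρ := isIrr_of_indFun_irr T hρ (by rw [hind]; exact hΞ')
  have htriv : ∀ a ∈ f.ker, indFun T ρ a = indFun T ρ 1 := by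
    intro a ha
    rw [hind]
    simp only [map_one, MonoidHom.mem_ker.mp ha]
  have hρA : ∀ (a : Γ) (ha : a ∈ f.ker), ρ ⟨a, hker ha⟩ = ρ 1 :=
    apply_eq_one_of_indFun T f.ker hker hρ htriv
  obtain ⟨f', hf'⟩ : ∃ f' : T →* T.map f, f' = f.subgroupMap T := ⟨_, rfl⟩
  have hf'surj : Function.Surjective f' := by rw [hf']; exact f.subgroupMap_surjective T
  have hf'a : ∀ t : T, ((f' t : T.map f) : G) = f (t : Γ) := by
    intro t; rw [hf']; rfl
  obtain ⟨ρ₁, hρ₁, hρ₁f⟩ := exists_descent f' hf'surj hρirr (by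
    intro a n hn
    apply apply_mul_of_apply_eq_one hρ n _ a
    have h1 : (n : Γ) ∈ f.ker := by
      rw [MonoidHom.mem_ker, ← hf'a, MonoidHom.mem_ker.mp hn]
      rfl
    exact hρA n h1)
  have hcomap : (T.map f).comap f = T := by
    rw [Subgroup.comap_map_eq, sup_eq_left.mpr hker]
  refine ⟨ρ₁, hρ₁, ?_⟩
  funext g
  obtain ⟨γ, rfl⟩ := hf g
  rw [← indFun_comap f hf (T.map f) ρ₁ γ]
  have h1 : indFun ((T.map f).comap f) (fun x => ρ₁ (f.subgroupComap (T.map f) x))
      = indFun T ρ := by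
    apply indFun_congr hcomap
    intro x h1 h2
    rw [← hρ₁f ⟨x, h2⟩]
    congr 1
    exact Subtype.ext (hf'a ⟨x, h2⟩).symm
  rw [h1, hind]

variable {G : Type u} [Group G] [Fintype G]

/-- The inductive step: a maximal subgroup inducing a quasi-primitive character can be replaced
by one with a bigger core. -/
theorem exists_bigger_core [hsolvG : Group.IsSolvable G] (χ : G → ℂ) (hχ : IsIrrCharacter G χ)
    (H : Subgroup G) (hH : IsCoatom H) (ϑ : H → ℂ) (hϑ : IsIrrCharacter H ϑ)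
    (hind : indFun H ϑ = χ) (φ : H.normalCore → ℂ) (e : ℕ)
    (hφ : IsIrrCharacter H.normalCore φ)
    (hres : (fun n : H.normalCore => χ n) = (e : ℂ) • φ) :
    ∃ (H₁ : Subgroup G) (ϑ₁ : H₁ → ℂ), IsCoatom H₁ ∧ IsIrrCharacter H₁ ϑ₁ ∧
      indFun H₁ ϑ₁ = χ ∧ Nat.card H.normalCore < Nat.card H₁.normalCore := by
  classical
  have hLH : H.normalCore ≤ H := Subgroup.normalCore_le H
  letI : Fintype H.normalCore := Fintype.ofFinite _
  letI : Fintype H := Fintype.ofFinite _
  have hχc := isCharacter_of_isIrrCharacter hχ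
  have hχcf := isClassFunction_of_isCharacter hχc
  have hϑc := isCharacter_of_isIrrCharacter hϑ
  have he : (e : ℂ) ≠ 0 := by
    intro h0
    have h1 := congrFun hres 1
    simp only [Pi.smul_apply, smul_eq_mul] at h1
    rw [h0, zero_mul] at h1
    exact apply_one_ne_zero hχ h1
  have hφinv := invariant_of_restrict_eq_smul H.normalCore χ hχ φ (e : ℂ) he hres
  obtain ⟨E, iG, iF, π, ι, θ', hπ, hker, hπι, hnorm, hθ', hθ'ι, hθ'K⟩ :=
    exists_central_extension H.normalCore φ hφ hφinv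
  haveI := hnorm
  have hθ'c := isCharacter_of_isIrrCharacter hθ'
  -- solvability of `E`
  haveI hEsolv : Group.IsSolvable E := by
    haveI : Group.IsSolvable π.ker := by
      apply Group.isSolvable_of_comm
      intro a b
      apply Subtype.ext
      have := Subgroup.mem_center_iff.mp (hker b.2) (a : E)
      show (a : E) * (b : E) = (b : E) * (a : E)
      exact this
    apply Group.isSolvable_of_ker_le_range π.ker.subtype π
    rw [Subgroup.range_subtype]
  -- the preimage of `H`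
  obtain ⟨Hh, hHh⟩ : ∃ Hh : Subgroup E, Hh = H.comap π := ⟨_, rfl⟩
  have hHhmem : ∀ x : E, x ∈ Hh ↔ π x ∈ H := by intro x; rw [hHh, Subgroup.mem_comap]
  have hHhmax : IsCoatom Hh := by rw [hHh]; exact isCoatom_comap π hπ hH
  letI : Fintype Hh := Fintype.ofFinite _
  have hcore_le : ∀ c ∈ Hh.normalCore, π c ∈ H.normalCore := by
    intro c hc
    haveI : (Hh.normalCore.map π).Normal := (Subgroup.normalCore_normal Hh).map π hπ
    have h1 : Hh.normalCore.map π ≤ H := by
      rintro _ ⟨x, hx, rfl⟩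
      exact (hHhmem x).mp (Subgroup.normalCore_le Hh hx)
    exact (Subgroup.normal_le_normalCore.mpr h1) (Subgroup.mem_map_of_mem π hc)
  have hcore_ge : H.normalCore.comap π ≤ Hh.normalCore := by
    haveI : (H.normalCore.comap π).Normal := (Subgroup.normalCore_normal H).comap π
    apply Subgroup.normal_le_normalCore.mpr
    rw [hHh]
    exact Subgroup.comap_mono hLH
  have hkerHh : π.ker ≤ Hh := by
    intro x hx
    rw [hHhmem, MonoidHom.mem_ker.mp hx]
    exact H.one_mem
  have hιHh : ι.range ≤ Hh := by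
    rintro _ ⟨n, rfl⟩
    rw [hHhmem, hπι]
    exact hLH n.2
  -- Gallagher in `Hh`
  haveI hK₀n : (ι.range.subgroupOf Hh).Normal := Subgroup.normal_subgroupOf
  letI : Fintype (ι.range.subgroupOf Hh) := Fintype.ofFinite _
  letI : Fintype ι.range := Fintype.ofFinite _
  obtain ⟨η, hηdef⟩ : ∃ η : Hh → ℂ, η = fun h : Hh => θ' (h : E) := ⟨_, rfl⟩
  have hηc : IsCharacter Hh η := by rw [hηdef]; exact isCharacter_restrict hθ'c Hh
  have hηK : IsIrrCharacter (ι.range.subgroupOf Hh)
      (fun k : ι.range.subgroupOf Hh => η k) := by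
    rw [hηdef]
    exact isIrrCharacter_comp_mulEquiv (Subgroup.subgroupOfEquivOfLe hιHh) hθ'K
  have hη : IsIrrCharacter Hh η := isIrrCharacter_of_restrict (ι.range.subgroupOf Hh) hηc hηK
  obtain ⟨πH, hπH⟩ : ∃ πH : Hh →* H, ∀ h : Hh, ((πH h : H) : G) = π (h : E) := by
    subst hHh
    exact ⟨π.subgroupComap H, fun h => rfl⟩
  have hπHsurj : Function.Surjective πH := by
    intro y
    obtain ⟨x, hx⟩ := hπ (y : G)
    refine ⟨⟨x, (hHhmem x).mpr (by rw [hx]; exact y.2)⟩, ?_⟩
    apply Subtype.ext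
    rw [hπH]
    exact hx
  obtain ⟨ϑh, hϑhdef⟩ : ∃ ϑh : Hh → ℂ, ϑh = fun h : Hh => ϑ (πH h) := ⟨_, rfl⟩
  have hϑh : IsIrrCharacter Hh ϑh := by
    rw [hϑhdef]; exact isIrrCharacter_comp_surjective πH hπHsurj hϑ
  -- `χ ∘ π` restricted to `Hh` contains `ϑh`
  obtain ⟨A, hAdef⟩ : ∃ A : Hh → ℂ, A = fun h : Hh => χ (π (h : E)) := ⟨_, rfl⟩
  have hAc : IsCharacter Hh A := by
    have h1 := isCharacter_comp (isCharacter_restrict hχc H) πH
    have h2 : (fun h : Hh => (fun h : H => χ h) (πH h)) = A := by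
      rw [hAdef]
      funext h
      show χ ((πH h : H) : G) = _
      rw [hπH]
    rwa [h2] at h1
  have hAϑ : classInner A ϑh ≠ 0 := by
    have h1 : classInner (fun h : Hh => (fun h : H => χ h) (πH h)) (fun h : Hh => ϑ (πH h))
        = classInner (fun h : H => χ h) ϑ :=
      classInner_comp_surjective πH hπHsurj (fun h : H => χ h) ϑ
    have h2 : (fun h : Hh => (fun h : H => χ h) (πH h)) = A := by
      rw [hAdef]
      funext h
      show χ ((πH h : H) : G) = _
      rw [hπH]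
    rw [h2, ← hϑhdef] at h1
    rw [h1]
    have hfrob := frobenius_reciprocity H ϑ χ hχcf
    rw [hind, irr_classInner_self hχ] at hfrob
    rw [← classInner_conj_symm, ← hfrob]
    simp
  -- the restriction of `A` to `K₀`
  have hAK : (fun k : ι.range.subgroupOf Hh => A k)
      = (e : ℂ) • (fun k : ι.range.subgroupOf Hh => η k) := by
    funext k
    have hk : ((k : Hh) : E) ∈ ι.range := Subgroup.mem_subgroupOf.mp k.2
    obtain ⟨l, hl⟩ := hk
    simp only [Pi.smul_apply, smul_eq_mul]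
    rw [hAdef, hηdef]
    simp only
    rw [← hl, hπι, hθ'ι]
    have := congrFun hres l
    simp only [Pi.smul_apply, smul_eq_mul] at this
    exact this
  have hover : classInner (fun n : ι.range.subgroupOf Hh => η n)
      (fun n : ι.range.subgroupOf Hh => ϑh n) ≠ 0 := by
    have hϑhK : IsCharacter (ι.range.subgroupOf Hh) (fun n : ι.range.subgroupOf Hh => ϑh n) :=
      isCharacter_restrict (isCharacter_of_isIrrCharacter hϑh) _
    have h0 : (fun n : ι.range.subgroupOf Hh => ϑh n) ≠ 0 := by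
      intro h
      have := congrFun h 1
      exact apply_one_ne_zero hϑh this
    obtain ⟨θ₀, hθ₀⟩ := exists_constituent hϑhK h0
    have h1 := Cfsg.Agent.Lib.helper3.Berger.classInner_comp_ne_zero_of_constituent
      (ι.range.subgroupOf Hh).subtype hAc hϑh hAϑ θ₀.2 hθ₀
    have h2 : (fun m : ι.range.subgroupOf Hh => A ((ι.range.subgroupOf Hh).subtype m))
        = (e : ℂ) • (fun k : ι.range.subgroupOf Hh => η k) := hAK
    rw [h2, classInner_smul_left] at h1
    have h3 : classInner (fun k : ι.range.subgroupOf Hh => η k) (θ₀ : _ → ℂ) ≠ 0 :=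
      right_ne_zero_of_mul h1
    have h4 : (fun k : ι.range.subgroupOf Hh => η k) = (θ₀ : _ → ℂ) := by
      by_contra hne
      exact h3 (irr_classInner_eq_zero hηK θ₀.2 hne)
    rw [h4, ← classInner_conj_symm]
    intro h5
    apply hθ₀
    have := congrArg conj h5
    simpa using this
  obtain ⟨δ, hδ, hδK, hϑδ⟩ := exists_mul_of_over_extension (ι.range.subgroupOf Hh) η ϑh hη hϑh
    hηK hover
  have hδc := isCharacter_of_isIrrCharacter hδ
  -- `χ ∘ π = β θ'`
  obtain ⟨χh, hχhdef⟩ : ∃ χh : E → ℂ, χh = fun x => χ (π x) := ⟨_, rfl⟩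
  have hχh : IsIrrCharacter E χh := by
    rw [hχhdef]; exact isIrrCharacter_comp_surjective π hπ hχ
  have hindh : indFun Hh ϑh = χh := by
    funext x
    rw [hχhdef, ← hind]
    simp only
    rw [← indFun_comap π hπ H ϑ x]
    apply congrFun
    apply indFun_congr hHh
    intro y h1 h2
    rw [hϑhdef]
    simp only
    congr 1
    apply Subtype.ext
    rw [hπH]
    rfl
  have hβθ : indFun Hh δ * θ' = χh := by
    rw [← hindh, hϑδ, hηdef]
    exact (indFun_mul_restrict Hh δ θ' (isClassFunction_of_isCharacter hθ'c)).symm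
  have hβ : IsIrrCharacter E (indFun Hh δ) := by
    apply isIrr_of_mul_irr hθ'c (isCharacter_indFun Hh δ hδc) (apply_one_ne_zero hθ')
    rw [mul_comm, hβθ]
    exact hχh
  -- the function `D`
  obtain ⟨D, hD⟩ : ∃ D : E → ℂ, D = extendByZero Hh δ := ⟨_, rfl⟩
  have hDmem : ∀ (g : E) (hg : g ∈ Hh), D g = δ ⟨g, hg⟩ := by
    intro g hg; rw [hD]; exact extendByZero_mem Hh δ hg
  have hD1 : D 1 = δ 1 := hDmem 1 Hh.one_mem
  have hD1ne : D 1 ≠ 0 := by rw [hD1]; exact apply_one_ne_zero hδ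
  -- (D1): central elements
  have hZc : (π.ker).subgroupOf Hh ≤ Subgroup.center Hh := by
    intro z hz
    rw [Subgroup.mem_center_iff]
    intro g
    apply Subtype.ext
    have := Subgroup.mem_center_iff.mp (hker (Subgroup.mem_subgroupOf.mp hz)) (g : E)
    exact this
  have D1 : ∀ h ∈ Hh, ∀ z ∈ π.ker, D (h * z) = (D z / D 1) * D h := by
    intro h hh z hz
    have hzH : z ∈ Hh := hkerHh hz
    rw [hDmem _ (Hh.mul_mem hh hzH), hDmem _ hzH, hDmem _ hh, hD1]
    have := apply_mul_central' ((π.ker).subgroupOf Hh) hZc hδ ⟨h, hh⟩ ⟨z, hzH⟩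
      (Subgroup.mem_subgroupOf.mpr hz)
    exact this
  -- (D2): elements of the lift of `L`
  have D2 : ∀ h ∈ Hh, ∀ l : H.normalCore, D (h * ι l) = D h := by
    intro h hh l
    have hlH : ι l ∈ Hh := hιHh ⟨l, rfl⟩
    rw [hDmem _ (Hh.mul_mem hh hlH), hDmem _ hh]
    have h1 : δ ⟨ι l, hlH⟩ = δ 1 :=
      hδK ⟨⟨ι l, hlH⟩, Subgroup.mem_subgroupOf.mpr ⟨l, rfl⟩⟩
    exact apply_mul_of_apply_eq_one hδc ⟨ι l, hlH⟩ h1 ⟨h, hh⟩
  -- the central part
  have F' : ∀ h ∈ Hh, ∀ (c : E) (hc : π c ∈ H.normalCore),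
      D (h * c) = D h * (D (zpart π H.normalCore ι c hc) / D 1) := by
    intro h hh c hc
    have h1 := mul_zpart π H.normalCore ι c hc
    have hlH : ι ⟨π c, hc⟩ ∈ Hh := hιHh ⟨_, rfl⟩
    have hz := zpart_mem_ker π H.normalCore ι hπι c hc
    conv_lhs => rw [← h1, ← mul_assoc]
    rw [D1 _ (Hh.mul_mem hh hlH) _ hz, D2 h hh]
    ring
  have F : ∀ (c : E) (hc : π c ∈ H.normalCore), D c = D (zpart π H.normalCore ι c hc) := by
    intro c hc
    have := F' 1 Hh.one_mem c hc
    rw [one_mul] at this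
    rw [this]
    field_simp
  have hzeq : ∀ (x y : E) (hx : π x ∈ H.normalCore) (hy : π y ∈ H.normalCore), x = y →
      zpart π H.normalCore ι x hx = zpart π H.normalCore ι y hy := by
    intro x y hx hy hxy
    subst hxy
    rfl
  have hmul : ∀ h ∈ Hh, ∀ c ∈ Hh.normalCore,
      extendByZero Hh δ (h * c)
        = extendByZero Hh δ h * (extendByZero Hh δ c / extendByZero Hh δ 1) := by
    intro h hh c hc
    rw [← hD, F' h hh c (hcore_le c hc), F c (hcore_le c hc)]
  have hinv : ∀ g : E, ∀ c ∈ Hh.normalCore,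
      extendByZero Hh δ (g * c * g⁻¹) = extendByZero Hh δ c := by
    intro g c hc
    have hc' := hcore_le c hc
    have hgc : g * c * g⁻¹ ∈ Hh.normalCore := (Subgroup.normalCore_normal Hh).conj_mem c hc g
    have hgc' := hcore_le _ hgc
    rw [← hD, F c hc', F _ hgc']
    congr 1
    have h1 : π (g⁻¹⁻¹ * c * g⁻¹) ∈ H.normalCore := by
      rw [inv_inv]; exact hgc'
    rw [hzeq (g * c * g⁻¹) (g⁻¹⁻¹ * c * g⁻¹) hgc' h1 (by rw [inv_inv])]
    exact zpart_conj π hker H.normalCore ι hπι hnorm c g⁻¹ hc' h1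
  -- apply the division lemma
  obtain ⟨T, M, ρ, hTtop, hMn, hMT, hCM, hMC, hρc, hρind⟩ :=
    exists_bigger Hh hHhmax inferInstance δ hδ hβ hmul hinv
  letI : Fintype T := Fintype.ofFinite _
  obtain ⟨ρ', hρ'def⟩ : ∃ ρ' : T → ℂ, ρ' = ρ * fun t : T => θ' t := ⟨_, rfl⟩
  have hρ'c : IsCharacter T ρ' := by
    rw [hρ'def]; exact isCharacter_mul hρc (isCharacter_restrict hθ'c T)
  have hρ'ind : indFun T ρ' = fun x => χ (π x) := by
    rw [hρ'def, indFun_mul_restrict T ρ θ' (isClassFunction_of_isCharacter hθ'c), hρind, hβθ,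
      hχhdef]
  have hkerT : π.ker ≤ T := by
    intro x hx
    apply hMT
    apply hCM
    apply hcore_ge
    rw [Subgroup.mem_comap, MonoidHom.mem_ker.mp hx]
    exact H.normalCore.one_mem
  obtain ⟨ρ₁, hρ₁, hρ₁ind⟩ := descend_induced π hπ T hkerT hρ'c hχ hρ'ind
  have hcomapT : (T.map π).comap π = T := by
    rw [Subgroup.comap_map_eq, sup_eq_left.mpr hkerT]
  have hT₁top : T.map π ≠ ⊤ := by
    intro htop
    apply hTtop
    rw [← hcomapT, htop]
    rfl
  obtain ⟨H₁, ϑ₁, hH₁, hTH₁, hϑ₁, hϑ₁ind⟩ :=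
    exists_coatom_induced (T.map π) hT₁top (isCharacter_of_isIrrCharacter hρ₁) hχ hρ₁ind
  refine ⟨H₁, ϑ₁, hH₁, hϑ₁, hϑ₁ind, ?_⟩
  -- the core grows
  haveI hM₁n : (M.map π).Normal := hMn.map π hπ
  have hM₁H₁ : M.map π ≤ H₁.normalCore :=
    Subgroup.normal_le_normalCore.mpr ((Subgroup.map_mono hMT).trans hTH₁)
  have hLM₁ : H.normalCore ≤ M.map π := by
    intro l hl
    refine ⟨ι ⟨l, hl⟩, hCM (hcore_ge ?_), hπι _⟩
    rw [Subgroup.mem_comap, hπι]
    exact hl
  have hM₁L : ¬ M.map π ≤ H.normalCore := by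
    intro hle
    apply hMC
    intro x hx
    apply hcore_ge
    rw [Subgroup.mem_comap]
    exact hle (Subgroup.mem_map_of_mem π hx)
  by_contra hnot
  push Not at hnot
  have h1 : H.normalCore ≤ H₁.normalCore := hLM₁.trans hM₁H₁
  have h2 : H.normalCore = H₁.normalCore := Subgroup.eq_of_le_of_card_ge h1 hnot
  apply hM₁L
  rw [h2]
  exact hM₁H₁

end Cfsg.Agent.Lib.Helper5.Berger
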